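import Mathlib.AlgebraicGeometry.Morphisms.Smooth
import Mathlib.AlgebraicGeometry.ResidueField
import Groth.Agent.MorLib.SmoothLocus
import Groth.Agent.MorLib.UnramLocus
import Groth.Agent.AlgSpLib.FlatAt
import Groth.Agent.Triage.CMBC
import Groth.Agent.FibFlat.Core

/-! Smoothness and etaleness at a point descend along a morphism flat at a point. -/

set_option autoImplicit false
universe u

namespace Groth.Agent.FlatPtDesc

open AlgebraicGeometry CategoryTheory Limits

variable {X Y Y' : Scheme.{u}}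

theorem flat_stalkMap_of_eq {f g : X ⟶ Y} (e : f = g) (x : X) (h : (f.stalkMap x).hom.Flat) :
    (g.stalkMap x).hom.Flat := e ▸ h

/-- A smooth neighbourhood is the same as a point of the smooth locus. -/
theorem exists_smooth_nhd_iff (f : X ⟶ Y) [LocallyOfFinitePresentation f] (x : X) :
    (∃ U : X.Opens, x ∈ U ∧ Smooth (U.ι ≫ f)) ↔ x ∈ f.smoothLocus := by
  constructor
  · rintro ⟨U, hxU, hU⟩
    have h : (⟨x, hxU⟩ : U) ∈ (U.ι ≫ f).smoothLocus := by
      rw [Scheme.Hom.smoothLocus_eq_top]; trivial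
    rw [← Scheme.Hom.preimage_smoothLocus_eq] at h
    exact h
  · intro hx
    refine ⟨f.smoothLocus, hx, ?_⟩
    rw [← Scheme.Hom.smoothLocus_eq_top_iff, ← Scheme.Hom.preimage_smoothLocus_eq]
    exact Scheme.Opens.ι_preimage_self _

/-- If `g` is flat at `y'` and the base change of `f` is flat at `x'`, then `f` is flat at the image
of `x'`. -/
theorem flatAt_fst (f : X ⟶ Y) (g : Y' ⟶ Y) (x' : ↥(pullback f g))
    (hg : (g.stalkMap ((pullback.snd f g).base x')).hom.Flat)
    (hf' : ((pullback.snd f g).stalkMap x').hom.Flat) :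
    (f.stalkMap ((pullback.fst f g).base x')).hom.Flat := by
  have h1 : ((pullback.fst f g).stalkMap x').hom.Flat :=
    Triage.CMBC.flat_stalk_of_isPullback (IsPullback.of_hasPullback f g).flip x' hg
  have h2 : ((pullback.snd f g ≫ g).stalkMap x').hom.Flat := by
    rw [Scheme.Hom.stalkMap_comp]; exact hg.comp hf'
  have h3 := flat_stalkMap_of_eq pullback.condition.symm x' h2
  exact (AlgSpLib.flatAt_comp_left_iff (pullback.fst f g) f x' h1).mp h3

/-- Smoothness at a point descends along a base change which is flat at the image point. -/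
theorem smooth_nhd_descend (f : X ⟶ Y) [LocallyOfFinitePresentation f] (g : Y' ⟶ Y)
    (x' : ↥(pullback f g)) (hg : (g.stalkMap ((pullback.snd f g).base x')).hom.Flat)
    (h : ∃ U' : (pullback f g).Opens, x' ∈ U' ∧ Smooth (U'.ι ≫ pullback.snd f g)) :
    ∃ U : X.Opens, (pullback.fst f g).base x' ∈ U ∧ Smooth (U.ι ≫ f) := by
  rw [exists_smooth_nhd_iff] at h ⊢
  have hflat' : ((pullback.snd f g).stalkMap x').hom.Flat := by
    obtain ⟨U', hxU', hU'⟩ := (exists_smooth_nhd_iff _ x').2 h
    exact (FibFlat.flat_stalk_open_comp U'.ι (pullback.snd f g) ⟨x', hxU'⟩).1 (Flat.stalkMap _ _)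
  let s := pullback.snd f g
  let t : Spec (Y'.residueField (s x')) ⟶ Y' := Y'.fromSpecResidueField (s x')
  obtain ⟨y, hy, -⟩ := Scheme.Pullback.exists_preimage_pullback (f := s) (g := t) x'
    (IsLocalRing.closedPoint _) (Scheme.fromSpecResidueField_apply _ _).symm
  have hc2 := IsPullback.of_hasPullback s t
  have hsm : MorLib.SmoothLoc.SM (pullback.snd s t) y := by
    refine MorLib.SmoothLoc.preimage_le s t (pullback.snd s t) (pullback.fst s t) hc2
      (x := y) ?_
    show pullback.fst s t y ∈ s.smoothLocus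
    rw [hy]; exact h
  have hflat : (f.stalkMap ((pullback.fst s t ≫ pullback.fst f g).base y)).hom.Flat := by
    have := flatAt_fst f g x' hg hflat'
    rw [Scheme.Hom.comp_apply, hy]
    exact this
  have := MorLib.SmoothLoc.sm_of_fiber f (t ≫ g) (pullback.snd s t)
    (pullback.fst s t ≫ pullback.fst f g)
    (hc2.paste_horiz (IsPullback.of_hasPullback f g)) y hflat hsm
  rw [Scheme.Hom.comp_apply, hy] at this
  exact this

/-- Etaleness at a point descends along a base change which is flat at the image point. -/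
theorem etale_nhd_descend (f : X ⟶ Y) [LocallyOfFinitePresentation f] (g : Y' ⟶ Y)
    (x' : ↥(pullback f g)) (hg : (g.stalkMap ((pullback.snd f g).base x')).hom.Flat)
    (h : ∃ U' : (pullback f g).Opens, x' ∈ U' ∧ Etale (U'.ι ≫ pullback.snd f g)) :
    ∃ U : X.Opens, (pullback.fst f g).base x' ∈ U ∧ Etale (U.ι ≫ f) := by
  obtain ⟨U', hxU', hU'⟩ := h
  obtain ⟨U, hxU, hU⟩ := smooth_nhd_descend f g x' hg ⟨U', hxU', inferInstance⟩
  obtain ⟨V, hxV, hV⟩ := (MorLib.UnrLocus.loc_pullback f g x').mp ⟨U', hxU', inferInstance⟩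
  haveI : Smooth ((U ⊓ V).ι ≫ f) := by
    rw [← X.homOfLE_ι (inf_le_left : U ⊓ V ≤ U), Category.assoc]; infer_instance
  haveI : FormallyUnramified ((U ⊓ V).ι ≫ f) := by
    rw [← X.homOfLE_ι (inf_le_right : U ⊓ V ≤ V), Category.assoc]
    haveI : FormallyUnramified (V.ι ≫ f) := hV
    exact MorphismProperty.comp_mem _ _ _ inferInstance hV
  exact ⟨U ⊓ V, ⟨hxU, hxV⟩, Etale.of_formallyUnramified_of_flat _⟩

end Groth.Agent.FlatPtDesc
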