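import Groth.Agent.FlatPtDesc.Basic
import Groth.Agent.S12442
import Groth.Agent.SrcDescent.SmoothFppf
import Groth.Agent.StalkLoc7.Basic

/-! Smooth, unramified and etale at a point descend along a morphism of the source flat at a point. -/

set_option autoImplicit false
universe u

namespace Groth.Agent.FlatPtDesc

open AlgebraicGeometry CategoryTheory Limits

variable {X Y S : Scheme.{u}}

theorem smooth_nhd_source (f : Y ⟶ S) [LocallyOfFinitePresentation f] (g : X ⟶ Y)
    [LocallyOfFinitePresentation (g ≫ f)] (x : X) (hg : (g.stalkMap x).hom.Flat)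
    (hh : ∃ U : X.Opens, x ∈ U ∧ Smooth (U.ι ≫ g ≫ f)) :
    ∃ V : Y.Opens, g.base x ∈ V ∧ Smooth (V.ι ≫ f) := by
  obtain ⟨U0, hxU0, hU0⟩ := hh
  haveI : LocallyOfFinitePresentation g := Groth.Agent.S12442.result g f
  let U : X.Opens := U0 ⊓ ⟨{z | (g.stalkMap z).hom.Flat}, FlatLocus.isOpen_flat_locus g⟩
  haveI : Flat (U.ι ≫ g) :=
    Flat.of_stalkMap _ fun z => (FibFlat.flat_stalk_open_comp U.ι g z).2 z.2.2
  let W : Y.Opens := ⟨Set.range (U.ι ≫ g).base, (U.ι ≫ g).isOpenMap.isOpen_range⟩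
  let π := (U.ι ≫ g) ∣_ W
  haveI : Surjective π := by
    refine ⟨fun w => ?_⟩
    obtain ⟨z, hz⟩ := w.2
    refine ⟨⟨z, show (U.ι ≫ g).base z ∈ W from ⟨z, rfl⟩⟩, Subtype.ext ?_⟩
    exact (morphismRestrict_base_coe (U.ι ≫ g) W _).trans hz
  haveI : Smooth (U.ι ≫ g ≫ f) := by
    rw [← X.homOfLE_ι (show U ≤ U0 from inf_le_left), Category.assoc]; infer_instance
  haveI : Smooth (π ≫ W.ι ≫ f) := by
    rw [← Category.assoc π, morphismRestrict_ι, Category.assoc, Category.assoc]; infer_instance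
  exact ⟨W, ⟨⟨x, hxU0, hg⟩, rfl⟩, SrcDescent.smooth_of_fppf_comp π (W.ι ≫ f)⟩

theorem formallyUnramified_of_comp_flat {A B C : Type u} [CommRing A] [CommRing B] [CommRing C]
    [IsLocalRing A] [IsLocalRing B] [IsLocalRing C] [Algebra A B] [Algebra B C] [Algebra A C]
    [IsScalarTower A B C] [IsLocalHom (algebraMap A B)] [IsLocalHom (algebraMap B C)]
    [IsLocalHom (algebraMap A C)] [Module.Flat B C] [Algebra.EssFiniteType A B]
    [Algebra.EssFiniteType A C] (h : Algebra.FormallyUnramified A C) :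
    Algebra.FormallyUnramified A B := by
  obtain ⟨hm, hfin, hsep⟩ := StalkLoc7.formallyUnramified_iff.1 h
  haveI : Module.FaithfullyFlat B C := Module.FaithfullyFlat.of_flat_of_isLocalHom
  refine StalkLoc7.formallyUnramified_iff.2 ⟨?_, ?_, ?_⟩
  · have hle : (IsLocalRing.maximalIdeal B).map (algebraMap B C) ≤
        ((IsLocalRing.maximalIdeal A).map (algebraMap A B)).map (algebraMap B C) := by
      rw [Ideal.map_map, ← IsScalarTower.algebraMap_eq A B C, hm]
      exact IsLocalRing.map_maximalIdeal_le _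
    refine le_antisymm (IsLocalRing.map_maximalIdeal_le _) ?_
    have := Ideal.comap_mono (f := algebraMap B C) hle
    rwa [Ideal.comap_map_eq_self_of_faithfullyFlat, Ideal.comap_map_eq_self_of_faithfullyFlat] at this
  · exact Module.Finite.of_injective
      (IsScalarTower.toAlgHom (IsLocalRing.ResidueField A) (IsLocalRing.ResidueField B)
        (IsLocalRing.ResidueField C)).toLinearMap (RingHom.injective _)
  · exact Algebra.isSeparable_tower_bot_of_isSeparable (IsLocalRing.ResidueField A)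
      (IsLocalRing.ResidueField B) (IsLocalRing.ResidueField C)

theorem unramified_nhd_source (f : Y ⟶ S) [LocallyOfFiniteType f] (g : X ⟶ Y)
    [LocallyOfFiniteType (g ≫ f)] (x : X) (hg : (g.stalkMap x).hom.Flat)
    (hh : ∃ U : X.Opens, x ∈ U ∧ FormallyUnramified (U.ι ≫ g ≫ f)) :
    ∃ V : Y.Opens, g.base x ∈ V ∧ FormallyUnramified (V.ι ≫ f) := by
  obtain ⟨U, hxU, hU⟩ := hh
  refine StalkLoc7.exists_unramified f (g x) ?_
  have h0 : ((g ≫ f).stalkMap x).hom.FormallyUnramified :=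
    (StalkLoc7.stalkMap_openImmersion_comp (g ≫ f) U ⟨x, hxU⟩).2
      (FormallyUnramified.stalkMap (U.ι ≫ g ≫ f) ⟨x, hxU⟩)
  have e : ((g ≫ f).stalkMap x).hom = (g.stalkMap x).hom.comp (f.stalkMap (g x)).hom := by
    rw [Scheme.Hom.stalkMap_comp]; rfl
  have hC := LocallyOfFiniteType.stalkMap (g ≫ f) x
  rw [e] at h0 hC
  letI := (f.stalkMap (g x)).hom.toAlgebra
  letI := (g.stalkMap x).hom.toAlgebra
  letI := ((g.stalkMap x).hom.comp (f.stalkMap (g x)).hom).toAlgebra
  haveI : IsScalarTower (S.presheaf.stalk (f (g x))) (Y.presheaf.stalk (g x))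
      (X.presheaf.stalk x) := IsScalarTower.of_algebraMap_eq fun _ => rfl
  haveI : IsLocalHom (algebraMap (S.presheaf.stalk (f (g x))) (Y.presheaf.stalk (g x))) :=
    inferInstanceAs (IsLocalHom (f.stalkMap (g x)).hom)
  haveI : IsLocalHom (algebraMap (Y.presheaf.stalk (g x)) (X.presheaf.stalk x)) :=
    inferInstanceAs (IsLocalHom (g.stalkMap x).hom)
  haveI : IsLocalHom (algebraMap (S.presheaf.stalk (f (g x))) (X.presheaf.stalk x)) :=
    inferInstanceAs (IsLocalHom ((g.stalkMap x).hom.comp (f.stalkMap (g x)).hom))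
  haveI : Algebra.EssFiniteType (S.presheaf.stalk (f (g x))) (Y.presheaf.stalk (g x)) := by
    rw [← RingHom.essFiniteType_algebraMap, RingHom.algebraMap_toAlgebra]
    exact LocallyOfFiniteType.stalkMap f (g x)
  haveI : Algebra.EssFiniteType (S.presheaf.stalk (f (g x))) (X.presheaf.stalk x) := by
    rw [← RingHom.essFiniteType_algebraMap, RingHom.algebraMap_toAlgebra]
    exact hC
  haveI : Module.Flat (Y.presheaf.stalk (g x)) (X.presheaf.stalk x) := hg
  exact formallyUnramified_of_comp_flat (A := S.presheaf.stalk (f (g x)))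
    (B := Y.presheaf.stalk (g x)) (C := X.presheaf.stalk x) h0

theorem etale_nhd_source (f : Y ⟶ S) [LocallyOfFinitePresentation f] (g : X ⟶ Y)
    [LocallyOfFinitePresentation (g ≫ f)] (x : X) (hg : (g.stalkMap x).hom.Flat)
    (hh : ∃ U : X.Opens, x ∈ U ∧ Etale (U.ι ≫ g ≫ f)) :
    ∃ V : Y.Opens, g.base x ∈ V ∧ Etale (V.ι ≫ f) := by
  obtain ⟨W, hxW, hW⟩ := hh
  obtain ⟨U, hxU, hU⟩ := smooth_nhd_source f g x hg ⟨W, hxW, inferInstance⟩
  obtain ⟨V, hxV, hV⟩ := unramified_nhd_source f g x hg ⟨W, hxW, inferInstance⟩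
  haveI : Smooth ((U ⊓ V).ι ≫ f) := by
    rw [← Y.homOfLE_ι (inf_le_left : U ⊓ V ≤ U), Category.assoc]; infer_instance
  haveI : FormallyUnramified ((U ⊓ V).ι ≫ f) := by
    rw [← Y.homOfLE_ι (inf_le_right : U ⊓ V ≤ V), Category.assoc]
    exact MorphismProperty.comp_mem _ _ _ inferInstance hV
  exact ⟨U ⊓ V, ⟨hxU, hxV⟩, Etale.of_formallyUnramified_of_flat _⟩

end Groth.Agent.FlatPtDesc
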